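import Groth.Agent.Lib.GeomNorm5.Basic
import Groth.Agent.Lib.NormalHom.BaseChange
import Groth.Agent.Lib.Misc6.NoethFibres
import Groth.Agent.Lib.LocProp.Descend
import Mathlib.AlgebraicGeometry.Morphisms.Flat

/-!
# Normal morphisms: pointwise form, base change and descent
-/

set_option autoImplicit false
set_option backward.isDefEq.respectTransparency false
set_option linter.all false
set_option maxHeartbeats 800000

universe u

open CategoryTheory CategoryTheory.Limits AlgebraicGeometry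
open scoped TensorProduct
open Groth.Agent.Lib.AlgMisc.GeomNormLocal (IsND isND_equiv isND_stalk_Spec_iff)

namespace GrothLib.NormalMor29

open GrothLib.GeomNorm5

variable {X Y X' Y' : Scheme.{u}}

theorem normAt_of_isNormalHom_affine (A C : Type u) [CommRing A] [CommRing C] [Algebra A C]
    (h : EGA4.IsNormalHom A C) (w : Spec (CommRingCat.of C)) :
    NormAt (Spec.map (CommRingCat.ofHom (algebraMap A C))) w := by
  intro L _ s z _
  obtain ⟨ψ, rfl⟩ : ∃ ψ, Spec.map ψ = s := ⟨_, Spec.map_preimage s⟩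
  letI : Algebra A L := ψ.hom.toAlgebra
  let e := pullbackSpecIso A C L
  have hψ : Spec.map ψ = Spec.map (CommRingCat.ofHom (algebraMap A L)) := rfl
  refine (isND_of_isIso e.hom z).1 ((isND_stalk_Spec_iff _ (e.hom z)).2 ?_)
  have hn : EGA4.IsNormalRing (C ⊗[A] L) :=
    GrothLib.Excellent.isNormalRing_congr (Algebra.TensorProduct.comm A L C).toRingEquiv
      (GrothLib.NormalHom.isNormalRing_field_tensor' h.2 L)
  exact hn _

/-- The pointwise form of normal morphisms. -/
theorem forall_appLE_iff (f : X ⟶ Y) :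
    (∀ (U : X.Opens) (V : Y.Opens) (hU : IsAffineOpen U) (hV : IsAffineOpen V) (hUV : U ≤ f ⁻¹ᵁ V),
        letI := (f.appLE V U hUV).hom.toAlgebra
        EGA4.IsNormalHom Γ(Y, V) Γ(X, U)) ↔ Flat f ∧ ∀ x, NormAt f x := by
  constructor
  · intro h
    refine ⟨(HasRingHomProperty.iff_appLE (P := @Flat)).2 fun V U e => ?_, fun x => ?_⟩
    · exact (h U.1 V.1 U.2 V.2 e).1
    intro L _ s z hz
    obtain ⟨V, hV, hxV, -⟩ := exists_isAffineOpen_mem_and_subset (x := f x) (U := (⊤ : Y.Opens)) trivial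
    obtain ⟨U, hU, hxU, hUV⟩ := exists_isAffineOpen_mem_and_subset (x := x) (U := f ⁻¹ᵁ V) hxV
    have hr : Set.range s ⊆ Set.range hV.fromSpec := by
      rintro _ ⟨t, rfl⟩
      rw [hV.range_fromSpec]
      have ht : s t = f x := by
        rw [Subsingleton.elim t (pullback.snd f s z), ← Scheme.Hom.comp_apply, ← pullback.condition,
          Scheme.Hom.comp_apply, hz]
      rw [ht]
      exact hxV
    let s₀ := IsOpenImmersion.lift hV.fromSpec s hr
    have hs₀ : s₀ ≫ hV.fromSpec = s := IsOpenImmersion.lift_fac _ _ _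
    letI := (f.appLE V U hUV).hom.toAlgebra
    let gS : Spec Γ(X, U) ⟶ Spec Γ(Y, V) := Spec.map (f.appLE V U hUV)
    have sq : gS ≫ hV.fromSpec = hU.fromSpec ≫ f := hV.SpecMap_appLE_fromSpec f hU hUV
    let n := pullback.map gS s₀ f s hU.fromSpec (𝟙 _) hV.fromSpec sq
      (hs₀.trans (Category.id_comp _).symm)
    obtain ⟨w, hw⟩ : z ∈ Set.range n := by
      rw [Scheme.Pullback.range_map]
      refine ⟨?_, ⟨pullback.snd f s z, rfl⟩⟩
      show pullback.fst f s z ∈ Set.range hU.fromSpec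
      rw [hz, hU.range_fromSpec]
      exact hxU
    rw [← hw]
    exact (isND_of_isIso n w).2
      (normAt_of_isNormalHom_affine Γ(Y, V) Γ(X, U) (h U V hU hV hUV) (pullback.fst gS s₀ w) L s₀ w rfl)
  · rintro ⟨hf, h⟩ U V hU hV hUV
    letI := (f.appLE V U hUV).hom.toAlgebra
    haveI : Module.Flat Γ(Y, V) Γ(X, U) :=
      (HasRingHomProperty.iff_appLE (P := @Flat)).1 hf ⟨V, hV⟩ ⟨U, hU⟩ hUV
    refine isNormalHom_of_normAt _ _ fun w => normAt_restrict (f := f) hU.fromSpec hV.fromSpec ?_ (h _)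
    exact (hV.SpecMap_appLE_fromSpec f hU hUV).symm

/-- Base change. -/
theorem normAt_baseChange {g' : X' ⟶ X} {f' : X' ⟶ Y'} {f : X ⟶ Y} {g : Y' ⟶ Y}
    (hc : IsPullback g' f' f g) {x' : X'} (h : NormAt f (g' x')) : NormAt f' x' := by
  intro L _ s z hz
  have hp := (IsPullback.of_hasPullback f' s).paste_horiz hc
  refine (isND_of_isIso hp.isoPullback.hom z).1 (h L (s ≫ g) _ ?_)
  rw [← Scheme.Hom.comp_apply, IsPullback.isoPullback_hom_fst, Scheme.Hom.comp_apply, hz]

theorem iff_of_baseChange (f : X ⟶ Y) (f' : X' ⟶ Y') (g' : X' ⟶ X) (g : Y' ⟶ Y) [Flat g]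
    [LocallyOfFinitePresentation g] [Surjective g] (hc : IsPullback g' f' f g) :
    ((∀ y : Y, IsLocallyNoetherian (f.fiber y)) ∧ Flat f ∧ ∀ x, NormAt f x) ↔
      ((∀ y' : Y', IsLocallyNoetherian (f'.fiber y')) ∧ Flat f' ∧ ∀ x', NormAt f' x') := by
  haveI : Flat g' := MorphismProperty.of_isPullback hc.flip ‹Flat g›
  haveI : Surjective g' := MorphismProperty.of_isPullback hc.flip ‹Surjective g›
  constructor
  · rintro ⟨h1, h2, h3⟩
    exact ⟨fun y' => (Misc6.fibre_iff hc y').2 (h1 _), MorphismProperty.of_isPullback hc h2,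
      fun x' => normAt_baseChange hc (h3 _)⟩
  · rintro ⟨h1, h2, h3⟩
    refine ⟨fun y => ?_, (Flat.iff_flat_stalkMap f).2 fun x => ?_, fun x => ?_⟩
    · obtain ⟨y', rfl⟩ := g.surjective y
      exact (Misc6.fibre_iff hc y').1 (h1 y')
    · obtain ⟨x', rfl⟩ := g'.surjective x
      refine LocProp.flat_descends g' f x' (Flat.stalkMap g' x') ?_
      haveI : Flat (g' ≫ f) := by rw [hc.w]; infer_instance
      exact Flat.stalkMap (g' ≫ f) x'
    · obtain ⟨x', rfl⟩ := g'.surjective x
      exact normAt_descend hc (h3 x')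

end GrothLib.NormalMor29
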